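import Groth.Agent.Coherent.K471.VaNear
import Groth.Agent.Ega3B.NearFibre

/-!
# Very ampleness on a fibre with `H^1 = 0` spreads out
-/

set_option autoImplicit false
universe u
open CategoryTheory CategoryTheory.Limits AlgebraicGeometry TopologicalSpace Opposite
open Groth.Agent.Fdesc.LocGen

namespace K471.VaLift

open Groth.Agent.Krr.H484.PnHom Groth.Agent.Dix.ProjProper Groth.Agent.K385.VeryAmpleBC
open Groth.Agent.Ega3B Groth.Agent.Ega3B.EqzSections Groth.Agent.Ega3B.PackageAsm K471.VaNear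

variable {X Y : Scheme.{u}}

/-- Multiplication by a global function. -/
noncomputable def sc (M : X.Modules) (a : Γ(X, ⊤)) : M ⟶ M :=
  mkHom (fun U =>
    { toFun := fun m => ores (le_top : U ≤ ⊤) a • m
      map_zero' := smul_zero _
      map_add' := smul_add _ })
    (fun U b m => smul_comm (ores (le_top : U ≤ ⊤) a) b m)
    (fun U V h m => by
      change ores (le_top : V ≤ ⊤) a • res M h m = res M h (ores (le_top : U ≤ ⊤) a • m)
      rw [res_smul, ores_ores])

theorem sc_app (M : X.Modules) (a : Γ(X, ⊤)) (U : X.Opens) (m : Γ(M, U)) :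
    (sc M a).app U m = ores (le_top : U ≤ ⊤) a • m := rfl

theorem sc_comp_eq_id (M : X.Modules) {a b : Γ(X, ⊤)} (h : a * b = 1) : sc M a ≫ sc M b = 𝟙 M := by
  apply Scheme.Modules.hom_ext
  intro U
  ext m
  change (sc M b).app U ((sc M a).app U m) = m
  rw [sc_app, sc_app, smul_smul, ← map_mul, mul_comm, h, map_one, one_smul]

/-- Multiplication by an invertible function. -/
noncomputable def scIso (M : X.Modules) (u : Γ(X, ⊤)ˣ) : M ≅ M where
  hom := sc M u
  inv := sc M (u⁻¹ : Γ(X, ⊤)ˣ)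
  hom_inv_id := sc_comp_eq_id M u.mul_inv
  inv_hom_id := sc_comp_eq_id M u.inv_mul

theorem scIso_app (M : X.Modules) (u : Γ(X, ⊤)ˣ) (m : Γ(M, ⊤)) :
    (scIso M u).hom.app ⊤ m = (u : Γ(X, ⊤)) • m := by
  change (sc M u).app ⊤ m = _
  rw [sc_app, ores_refl]

theorem app_secMap {A K : Type u} [CommRing A] [CommRing K] [Algebra A K] {Z : Scheme.{u}}
    {g : Z ⟶ X} {p : X ⟶ Spec (CommRingCat.of A)} {q : Z ⟶ Spec (CommRingCat.of K)}
    (h : g ≫ p = q ≫ Spec.map (CommRingCat.ofHom (algebraMap A K))) (a : A) :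
    (g.app ⊤).hom (secMap p ⊤ a) = secMap q (g ⁻¹ᵁ ⊤) (algebraMap A K a) := by
  have h1 : (Scheme.ΓSpecIso (CommRingCat.of A)).inv ≫ p.appTop ≫ g.appTop =
      CommRingCat.ofHom (algebraMap A K) ≫ (Scheme.ΓSpecIso (CommRingCat.of K)).inv ≫ q.appTop := by
    rw [← Scheme.Hom.comp_appTop, h, Scheme.Hom.comp_appTop, Scheme.ΓSpecIso_inv_naturality_assoc]
  have h2 : p.appLE ⊤ ⊤ (le_preimage_top p ⊤) = p.appTop := (Scheme.Hom.app_eq_appLE _).symm
  have h3 : q.appLE ⊤ (g ⁻¹ᵁ ⊤) (le_preimage_top q _) = q.appTop := (Scheme.Hom.app_eq_appLE _).symm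
  have h4 := congrArg (fun k => k.hom a) h1
  change (g.app ⊤).hom ((p.appLE ⊤ ⊤ (le_preimage_top p ⊤)).hom
      ((Scheme.ΓSpecIso (CommRingCat.of A)).inv.hom a)) =
    (q.appLE ⊤ (g ⁻¹ᵁ ⊤) (le_preimage_top q _)).hom
      ((Scheme.ΓSpecIso (CommRingCat.of K)).inv.hom (algebraMap A K a))
  rw [h2, h3]
  exact h4

/-- **Very ampleness on a fibre with `H^1 = 0` spreads out.** -/
theorem exists_near (f : X ⟶ Y) [IsProper f] [Flat f] [IsLocallyNoetherian Y] (y : Y)
    (L : X.Modules) (hL : PicF.IsInvertible L)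
    (hva : RelAmple.IsRelVeryAmplePn (f.fiberToSpecResidueField y) (CohIII.fiberMod f L y))
    (h1 : Subsingleton (CohIII.fiberH f L y 1)) :
    ∃ U : Y.Opens, y ∈ U ∧ RelAmple.IsRelVeryAmplePn (f ∣_ U) (L.restrict (f ⁻¹ᵁ U).ι) := by
  obtain ⟨W, hW, hyW, -⟩ := exists_isAffineOpen_mem_and_subset (x := y) (U := ⊤) trivial
  obtain ⟨g, q, σ, hg, H, -⟩ := EtPoint.exists_square f hW ⟨y, hyW⟩
  obtain ⟨ε⟩ := FibreResid.nonempty_fiberMod_iso f L y (f ⁻¹ᵁ W) g hg
  obtain ⟨n, i, hi, hif, ⟨eL⟩⟩ := hva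
  change i ≫ CohB1.ProjSpaceOver.toBase n _ = _ at hif
  -- the closed immersion of the fibre
  have hicl : IsClosedImmersion i := by
    have hp : IsProper (i ≫ CohB1.ProjSpaceOver.toBase n (Spec (Y.residueField y))) := by
      rw [hif]
      exact MorphismProperty.of_isPullback (P := @IsProper)
        (IsPullback.of_hasPullback f (Y.fromSpecResidueField y)) inferInstance
    have hjp : IsProper i := IsProper.of_comp i (CohB1.ProjSpaceOver.toBase n _)
    have hjpre : IsPreimmersion i := inferInstance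
    exact IsClosedImmersion.of_isPreimmersion i i.isClosedMap.isClosed_range
  let ψ := i ≫ toZ n (Spec (Y.residueField y))
  have hψi : toOver ψ (f.fiberToSpecResidueField y) = i := by
    apply (isPullback_toZ n _).hom_ext
    · rw [toOver_toZ]
    · rw [toOver_toBase, hif]
  -- the sections on the fibre
  let e0 : (Scheme.Modules.pullback ψ).obj (Twist.twistProjSpace n (ULift.{u} ℤ) 1) ≅
      (Scheme.Modules.pullback g).obj (L.restrict (f ⁻¹ᵁ W).ι) :=
    ((Scheme.Modules.pullbackComp i (toZ n _)).app _).symm ≪≫ eL.symm ≪≫ ε.symm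
  have hcoh : Coh.IsCoh L := Groth.Agent.PerfA.CohSerre.isCoh_of_isFinLocFree
    (NearFibre.isFinLocFree_of_isInvertible hL)
  have hlift := fun j : Fin (n + 1) =>
    LiftSection.exists_lift_W f L hcoh (NearFibre.isFlatOver_of_isInvertible f hL)
      hW ⟨y, hyW⟩ (NearFibre.fibreSec f L hcoh.1 hW ⟨y, hyW⟩ 1) h1 g q H
      (e0.hom.app ⊤ (pullTop ψ (coordSec n (ULift.{u} ℤ) j)))
  choose a s ha hs using hlift
  let p := (hW.primeIdealOf ⟨y, hyW⟩).asIdeal
  let b : Γ(Y, W) := ∏ j, a j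
  have hb : b ∉ p := by
    intro hb
    obtain ⟨j, -, hj⟩ := (Ideal.IsPrime.prod_mem_iff (hp := inferInstance)).mp hb
    exact ha j hj
  have hunit : IsUnit (secMap q ⊤ (algebraMap Γ(Y, W) p.ResidueField b)) := by
    refine IsUnit.map _ (IsUnit.mk0 _ ?_)
    rw [Ne, Ideal.algebraMap_residueField_eq_zero]
    exact hb
  obtain ⟨u, hu⟩ := hunit
  let s' : Fin (n + 1) → Γ(L.restrict (f ⁻¹ᵁ W).ι, ⊤) := fun j =>
    (show Γ((f ⁻¹ᵁ W).toScheme, ⊤) from secMap (strMap f hW) ⊤ (∏ k ∈ Finset.univ.erase j, a k)) • s j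
  have hs' : ∀ j, pullTop g (s' j) = (u : Γ(f.fiber y, ⊤)) •
      e0.hom.app ⊤ (pullTop ψ (coordSec n (ULift.{u} ℤ) j)) := by
    intro j
    have h2 : pullTop g (s' j) = pullSec g (s' j) := rfl
    rw [h2, pullSec_smul, hs j]
    have h3 := app_secMap H.w (∏ k ∈ Finset.univ.erase j, a k)
    have h4 : (g.app ⊤).hom (secMap (strMap f hW) ⊤ (∏ k ∈ Finset.univ.erase j, a k)) *
        secMap q (g ⁻¹ᵁ ⊤) (algebraMap Γ(Y, W) p.ResidueField (a j)) =
          (show Γ(f.fiber y, g ⁻¹ᵁ ⊤) from (u : Γ(f.fiber y, ⊤))) := by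
      rw [h3, ← map_mul, ← map_mul, hu, mul_comm, Finset.mul_prod_erase _ _ (Finset.mem_univ j)]
      rfl
    exact (smul_smul _ _ (show Γ((Scheme.Modules.pullback g).obj (L.restrict (f ⁻¹ᵁ W).ι), g ⁻¹ᵁ ⊤)
      from e0.hom.app ⊤ (pullTop ψ (coordSec n (ULift.{u} ℤ) j)))).trans
      (congrArg (fun c : Γ(f.fiber y, g ⁻¹ᵁ ⊤) =>
        c • (show Γ((Scheme.Modules.pullback g).obj (L.restrict (f ⁻¹ᵁ W).ι), g ⁻¹ᵁ ⊤)
          from e0.hom.app ⊤ (pullTop ψ (coordSec n (ULift.{u} ℤ) j)))) h4)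
  -- the square over the open `W`
  have hle : Set.range (Y.fromSpecResidueField y) ⊆ Set.range W.ι := by
    rw [Scheme.Opens.range_ι, Scheme.range_fromSpecResidueField]
    rintro _ rfl
    exact hyW
  let y0 : W.toScheme := ⟨y, hyW⟩
  let β : Spec (Y.residueField y) ⟶ W := IsOpenImmersion.lift W.ι _ hle
  have hβ : β ≫ W.ι = Y.fromSpecResidueField y := IsOpenImmersion.lift_fac _ _ _
  obtain ⟨c0, hc0⟩ := exists_point W y0 (𝟙 (Spec (Y.residueField y))) (Category.id_comp _) β hβ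
  have H0 : IsPullback (f.fiberι y) (f.fiberToSpecResidueField y) f (β ≫ W.ι) := by
    rw [hβ]
    exact IsPullback.of_hasPullback _ _
  have H1 := IsPullback.of_right' H0 (isPullback_morphismRestrict f W).flip
  have hlift := (isPullback_morphismRestrict f W).flip.lift_fst (f.fiberι y)
    (f.fiberToSpecResidueField y ≫ β) (by rw [H0.w, Category.assoc])
  have hgl : (isPullback_morphismRestrict f W).flip.lift (f.fiberι y)
    (f.fiberToSpecResidueField y ≫ β) (by rw [H0.w, Category.assoc]) = g := by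
    rw [← cancel_mono (f ⁻¹ᵁ W).ι, hlift, hg]
  rw [hgl] at H1
  have hβy : ∀ t : Spec (Y.residueField y), β t = y0 := by
    intro t
    apply W.ι.injective
    rw [← Scheme.Hom.comp_apply, hβ]
    have h5 : Y.fromSpecResidueField y t ∈ Set.range (Y.fromSpecResidueField y) := ⟨t, rfl⟩
    rw [Scheme.range_fromSpecResidueField] at h5
    exact h5
  obtain ⟨V, hyV, hV⟩ := near (f ∣_ W) y0 H1 hβy c0 hc0 (L.restrict (f ⁻¹ᵁ W).ι)
    (NearFibre.isInvertible_restrict hL (f ⁻¹ᵁ W)) s' ψ (by rw [hψi]; exact hicl)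
    (e0 ≪≫ scIso _ u) (fun j => by
      rw [hs' j]
      exact scIso_app _ _ _)
  refine ⟨W.ι ''ᵁ V, ⟨y0, hyV, rfl⟩, restrict_restrict f L W V (of_iso hV ?_)⟩
  exact (Scheme.Modules.restrictFunctor _).mapIso
    ((Scheme.Modules.restrictFunctorIsoPullback _).app L)

end K471.VaLift
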