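import Mathlib.Topology.NoetherianSpace
import Mathlib.Topology.Sober
import Mathlib.Topology.Sets.Opens

/-!
# Bounds on a Noetherian sober space from bounds near the generic points
-/

set_option autoImplicit false

open TopologicalSpace

namespace K471.StratBound

variable {T : Type*} [TopologicalSpace T] [NoetherianSpace T] [QuasiSober T]

/-- A bound valid near each point on its closure gives a global bound. -/
theorem exists_bound (P : ℕ → T → Prop) (hmono : ∀ {C C' : ℕ} {t : T}, C ≤ C' → P C t → P C' t)
    (h : ∀ t₀ : T, ∃ W : Set T, IsOpen W ∧ t₀ ∈ W ∧ ∃ C : ℕ, ∀ t ∈ W, t₀ ⤳ t → P C t) :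
    ∃ C : ℕ, ∀ t : T, P C t := by
  have key : ∀ Z : Closeds T, ∃ C : ℕ, ∀ t ∈ Z, P C t := by
    intro Z
    induction Z using WellFoundedLT.induction with
    | ind Z ih =>
      by_cases hirr : IsIrreducible (Z : Set T)
      · obtain ⟨t₀, ht₀⟩ := QuasiSober.sober hirr Z.isClosed
        obtain ⟨W, hW, htW, C, hC⟩ := h t₀
        have ht₀Z : t₀ ∈ (Z : Set T) := ht₀.mem
        let Z' : Closeds T := ⟨(Z : Set T) ∩ Wᶜ, Z.isClosed.inter hW.isClosed_compl⟩
        have hlt : Z' < Z := by
          refine lt_of_le_of_ne (fun t ht => ht.1) fun heq => ?_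
          have h1 : t₀ ∈ (Z' : Set T) := by rw [heq]; exact ht₀Z
          exact h1.2 htW
        obtain ⟨C', hC'⟩ := ih Z' hlt
        refine ⟨max C C', fun t ht => ?_⟩
        by_cases htW' : t ∈ W
        · exact hmono (le_max_left _ _) (hC t htW' (ht₀.specializes ht))
        · exact hmono (le_max_right _ _) (hC' t ⟨ht, htW'⟩)
      · by_cases hne : (Z : Set T).Nonempty
        · have hpre : ¬ IsPreirreducible (Z : Set T) := fun h => hirr ⟨hne, h⟩
          rw [isPreirreducible_iff_isClosed_union_isClosed] at hpre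
          push Not at hpre
          obtain ⟨Z₁, Z₂, h₁, h₂, hle, hn₁, hn₂⟩ := hpre
          let A : Closeds T := ⟨(Z : Set T) ∩ Z₁, Z.isClosed.inter h₁⟩
          let B : Closeds T := ⟨(Z : Set T) ∩ Z₂, Z.isClosed.inter h₂⟩
          have hA : A < Z := by
            refine lt_of_le_of_ne (fun t ht => ht.1) fun heq => hn₁ fun t ht => ?_
            have h1 : t ∈ (A : Set T) := by rw [heq]; exact ht
            exact h1.2
          have hB : B < Z := by
            refine lt_of_le_of_ne (fun t ht => ht.1) fun heq => hn₂ fun t ht => ?_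
            have h1 : t ∈ (B : Set T) := by rw [heq]; exact ht
            exact h1.2
          obtain ⟨C, hC⟩ := ih A hA
          obtain ⟨C', hC'⟩ := ih B hB
          refine ⟨max C C', fun t ht => ?_⟩
          rcases hle ht with h1 | h1
          · exact hmono (le_max_left _ _) (hC t ⟨ht, h1⟩)
          · exact hmono (le_max_right _ _) (hC' t ⟨ht, h1⟩)
        · exact ⟨0, fun t ht => absurd ⟨t, ht⟩ hne⟩
  obtain ⟨C, hC⟩ := key ⊤
  exact ⟨C, fun t => hC t trivial⟩

end K471.StratBound
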