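import Groth.Agent.Coherent.K471.RelGrow
import Groth.Agent.Coherent.K471.StratBound
import Groth.Agent.S0403
import Groth.Agent.S0458
import Groth.Agent.S1496
import Groth.Agent.Ega2.AmpleUnit
import Groth.Agent.Fga.IntegralSub
import Groth.Agent.CohqB.PullTwist471
import Groth.Agent.Dix.ProjProper

/-!
# Uniform bound for the cohomology of the fibres of powers

`main`: `f : X ⟶ T` projective, `T` Noetherian, `F` coherent, `L` invertible on `X`: there is `C` with
`h^q(X_t, (F ⊗ L^m)_t) ≤ C m^e`, `e = dim X_t`, for all `t`, `m ≥ 1`, `q`.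
-/

set_option autoImplicit false
universe u
open CategoryTheory CategoryTheory.Limits AlgebraicGeometry Opposite TopologicalSpace

namespace K471.RelBound

open Groth.Agent Groth.Agent.Ega2 Groth.Agent.Fdesc.LocGen
open Groth.Agent.Grpsch.PicGrp K433.Hq K471.RelFib K471.RelGrow
open K433.Growth (phi phi_succ)

variable {X T : Scheme.{u}}

/-- The bound at `t` with constant `C`. -/
def Bd (f : X ⟶ T) (F L : X.Modules) (C : ℕ) (t : T) : Prop :=
  ∀ e : ℕ, topologicalKrullDim (f.fiber t) = e → ∀ m : ℕ, 1 ≤ m → ∀ q : ℕ,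
    PerfAux.betti f (CohB1.tensorMod F (CohB1.tensorPow L m)) t q ≤ C * m ^ e

theorem Bd.mono {f : X ⟶ T} {F L : X.Modules} {C C' : ℕ} {t : T} (h : C ≤ C') (hB : Bd f F L C t) :
    Bd f F L C' t := fun e he m hm q =>
  (hB e he m hm q).trans (Nat.mul_le_mul_right _ h)

/-- Vanishing above the dimension of the fibre. -/
theorem betti_eq_zero_of_dim (f : X ⟶ T) [IsProper f] (M : X.Modules) (t : T) {e : ℕ}
    (he : topologicalKrullDim (f.fiber t) = e) {q : ℕ} (hq : e < q) : PerfAux.betti f M t q = 0 := by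
  let : (f.fiber t).Over (Spec (CommRingCat.of (T.residueField t))) := ⟨f.fiberToSpecResidueField t⟩
  have : IsProper (f.fiber t ↘ Spec (CommRingCat.of (T.residueField t))) :=
    MorphismProperty.of_isPullback (P := @IsProper)
      (IsPullback.of_hasPullback f (T.fromSpecResidueField t)) inferInstance
  have hN := Fga.HypSec.isNoetherian (T.residueField t) (f.fiber t)
  have : NoetherianSpace (f.fiber t).toTopCat := inferInstanceAs (NoetherianSpace (f.fiber t))
  have h1 := S0458.result (X := (f.fiber t).toTopCat) e he.le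
    (Coh.toAb ((Scheme.Modules.pullback (f.fiberι t)).obj M)) q hq
  exact hh_of_subsingleton (T.residueField t)
    (M := (Scheme.Modules.pullback (f.fiberι t)).obj M) (q := q) h1

/-- The dimension of the fibres near the generic point is that of the generic fibre. -/
theorem exists_dim (f : X ⟶ T) [IsProper f] [IsIntegral T] :
    ∃ V : T.Opens, genericPoint T ∈ V ∧ ∀ t ∈ V, topologicalKrullDim (f.fiber t) =
      topologicalKrullDim (f.fiber (genericPoint T)) := by
  refine ⟨⟨_, S0403.result f (topologicalKrullDim (f.fiber (genericPoint T)))⟩,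
    (le_rfl : topologicalKrullDim (f.fiber (genericPoint T)) ≤
      topologicalKrullDim (f.fiber (genericPoint T))), fun t ht => le_antisymm ht ?_⟩
  have h1 := S0403.result f (topologicalKrullDim (f.fiber t))
  exact ((genericPoint_spec T).mem_open_set_iff h1).mpr ⟨t, trivial,
    (le_rfl : topologicalKrullDim (f.fiber t) ≤ topologicalKrullDim (f.fiber t))⟩

/-- The bound near the generic point of an integral base. -/
theorem generic (f : X ⟶ T) [IsProper f] [IsIntegral T] [IsLocallyNoetherian T] [CompactSpace X]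
    [X.IsSeparated] {A : X.Modules} (hA : CohB1.IsAmple A) {F L : X.Modules} (hF : Coh.IsCoh F)
    (hL : PicF.IsInvertible L) :
    ∃ V : T.Opens, genericPoint T ∈ V ∧ ∃ C : ℕ, ∀ t ∈ V, Bd f F L C t := by
  obtain ⟨V₀, hV₀, hdim⟩ := exists_dim f
  by_cases hn : ∃ n : ℕ, topologicalKrullDim (f.fiber (genericPoint T)) = n
  · obtain ⟨n, hn⟩ := hn
    have hd : DimLT f (genericPoint T) (n + 1) F := by
      refine (Fga.DimLt.topologicalKrullDim_mono Set.inter_subset_right).trans_lt ?_
      have h1 := FlatA.FibreDim.topologicalKrullDim_fiber_eq f (genericPoint T)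
      rw [hn] at h1
      refine lt_of_eq_of_lt h1.symm ?_
      exact_mod_cast Nat.lt_succ_self n
    choose V hV C hC using fun q => bound_pow f hA (mk L hL) (n + 1) hF hd q
    refine ⟨V₀ ⊓ (Finset.range (n + 1)).inf V, ⟨hV₀, ?_⟩, (∑ q ∈ Finset.range (n + 1), C q) * 2 ^ n, ?_⟩
    · exact Finset.inf_induction (p := fun W : T.Opens => genericPoint T ∈ W) trivial
        (fun _ ha _ hb => ⟨ha, hb⟩) (fun q _ => hV q)
    · intro t ht e he m hm q
      have hen : e = n := by
        have := (hdim t ht.1).symm.trans he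
        rw [hn] at this
        exact_mod_cast this.symm
      subst hen
      by_cases hq : q ≤ e
      · have htq : t ∈ V q := by
          have h1 : (Finset.range (e + 1)).inf V ≤ V q :=
            Finset.inf_le (Finset.mem_range.mpr (Nat.lt_succ_of_le hq))
          exact h1 ht.2
        have h2 := hC q t htq m
        rw [← mk_tensorPow hL, bq_mk, phi_succ] at h2
        refine h2.trans ?_
        have h3 : C q ≤ ∑ q ∈ Finset.range (e + 1), C q :=
          Finset.single_le_sum (f := C) (fun _ _ => Nat.zero_le _)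
            (Finset.mem_range.mpr (Nat.lt_succ_of_le hq))
        have h4 : (m + 1) ^ e ≤ 2 ^ e * m ^ e := by
          rw [← mul_pow]
          exact Nat.pow_le_pow_left (by omega) e
        calc C q * (m + 1) ^ e ≤ (∑ q ∈ Finset.range (e + 1), C q) * (2 ^ e * m ^ e) :=
              Nat.mul_le_mul h3 h4
          _ = _ := by ring
      · rw [betti_eq_zero_of_dim f _ t he (not_le.mp hq)]
        exact Nat.zero_le _
  · refine ⟨V₀, hV₀, 0, fun t ht e he => absurd ⟨e, (hdim t ht).symm.trans he⟩ hn⟩

/-- The dimension of the fibres of a base change along a preimmersion. -/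
theorem dim_fiber_eq {X' T' : Scheme.{u}} {g' : X' ⟶ X} {f' : X' ⟶ T'} {f : X ⟶ T} {b : T' ⟶ T}
    (H : IsPullback g' f' f b) [IsPreimmersion b] (t : T') :
    topologicalKrullDim (f'.fiber t) = topologicalKrullDim (f.fiber (b t)) := by
  rw [FlatA.FibreDim.topologicalKrullDim_fiber_eq, FlatA.FibreDim.topologicalKrullDim_fiber_eq]
  have hg' : IsPreimmersion g' := MorphismProperty.of_isPullback H.flip ‹IsPreimmersion b›
  have hw : ∀ z : X', f (g' z) = b (f' z) := fun z => by
    rw [← Scheme.Hom.comp_apply, ← Scheme.Hom.comp_apply, H.w]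
  let φ : ((f' : X' → T') ⁻¹' {t}) → ((f : X → T) ⁻¹' {b t}) := fun z => ⟨g' z.1, by
    have hz : f' z.1 = t := z.2
    rw [Set.mem_preimage, hw, hz]
    rfl⟩
  refine IsHomeomorph.topologicalKrullDim_eq φ (isHomeomorph_iff_isEmbedding_surjective.mpr ⟨?_, ?_⟩)
  · have h1 : Topology.IsEmbedding (Subtype.val ∘ φ) :=
      g'.isEmbedding.comp Topology.IsEmbedding.subtypeVal
    exact Topology.IsEmbedding.of_comp
      ((g'.continuous.comp continuous_subtype_val).subtype_mk _) continuous_subtype_val h1
  · rintro ⟨x, hx⟩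
    obtain ⟨z, hz, hz'⟩ := Scheme.exists_preimage_of_isPullback H x t hx
    exact ⟨⟨z, hz'⟩, Subtype.ext hz⟩

/-- The bound near a point on its closure. -/
theorem local_bound (f : X ⟶ T) [IsProper f] [IsNoetherian T] (r : ℕ)
    (ι : X ⟶ CohB1.ProjSpaceOver r T) [IsClosedImmersion ι]
    (hι : ι ≫ CohB1.ProjSpaceOver.toBase r T = f) {F L : X.Modules} (hF : Coh.IsCoh F)
    (hL : PicF.IsInvertible L) (t₀ : T) :
    ∃ W : Set T, IsOpen W ∧ t₀ ∈ W ∧ ∃ C : ℕ, ∀ t ∈ W, t₀ ⤳ t → Bd f F L C t := by
  obtain ⟨Z, i, hi, hZ, hgen, hrange⟩ := Fga.IntegralSub.exists_integral_closed t₀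
  obtain ⟨U, hU, hηU, -⟩ := exists_isAffineOpen_mem_and_subset (x := genericPoint Z) (U := ⊤) trivial
  have : IsLocallyNoetherian Z := LocallyOfFiniteType.isLocallyNoetherian i
  have : IsLocallyNoetherian U.toScheme := LocallyOfFiniteType.isLocallyNoetherian U.ι
  have : Nonempty U.toScheme := ⟨⟨_, hηU⟩⟩
  have : IsIntegral U.toScheme := isIntegral_of_isOpenImmersion U.ι
  have : IsAffine U.toScheme := hU
  let b : U.toScheme ⟶ T := U.ι ≫ i
  have H : IsPullback (pullback.fst f b) (pullback.snd f b) f b := IsPullback.of_hasPullback f b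
  have hX'c : CompactSpace ↥(pullback f b) :=
    QuasiCompact.compactSpace_of_compactSpace (pullback.snd f b)
  have hX's : (pullback f b).IsSeparated := by
    constructor
    have h : terminal.from (pullback f b) = pullback.snd f b ≫ terminal.from _ :=
      Subsingleton.elim _ _
    rw [h]
    infer_instance
  -- the ample module
  obtain ⟨A, hA⟩ : ∃ A : (pullback f b).Modules, CohB1.IsAmple A := by
    have hw : (pullback.fst f b ≫ ι) ≫ CohB1.ProjSpaceOver.toBase r T = pullback.snd f b ≫ b := by
      rw [Category.assoc, hι, pullback.condition]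
    have h1 := Dix.ProjProper.isPullback_mapBase r b
    have h2 : IsPullback (pullback.fst f b) (h1.lift (pullback.fst f b ≫ ι) (pullback.snd f b) hw) ι
        (Dix.ProjProper.mapBase r b) := by
      refine IsPullback.of_bot (h₃₁ := b) (v₂₁ := CohB1.ProjSpaceOver.toBase r U.toScheme)
        (v₂₂ := CohB1.ProjSpaceOver.toBase r T) ?_ (h1.lift_fst _ _ _).symm h1
      rw [h1.lift_snd, hι]
      exact H
    exact ((S1496.result ⟨_, Ega2.Weight.isAmple_structureModule U.toScheme⟩ (pullback.snd f b)).1.1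
      ⟨r, _, MorphismProperty.of_isPullback (P := @IsClosedImmersion) h2 inferInstance,
        h1.lift_snd _ _ _⟩).2
  have hF' := FormalA.PullbackQC.isCoh_pullback (pullback.fst f b) F hF
  have hL' := isInvertible_pullback (pullback.fst f b) hL
  obtain ⟨V, hV, C, hC⟩ := generic (pullback.snd f b) hA hF' hL'
  -- descend to `T`
  have hop : IsOpen (U.ι '' (V : Set U.toScheme)) := U.ι.isOpenEmbedding.isOpenMap _ V.isOpen
  obtain ⟨W, hW, hWV⟩ := (i.isClosedEmbedding.isInducing.isOpen_iff).mp hop
  have hηW : genericPoint Z ∈ (i ⁻¹' W : Set Z) := by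
    rw [hWV]
    exact ⟨genericPoint U.toScheme, hV, genericPoint_eq_of_isOpenImmersion U.ι⟩
  refine ⟨W, hW, by rw [← hgen]; exact hηW, C, fun t ht hspec => ?_⟩
  have h1 : t ∈ Set.range i := by
    rw [hrange]
    exact hspec.mem_closure
  obtain ⟨z, rfl⟩ := h1
  have h2 : z ∈ (i ⁻¹' W : Set Z) := ht
  rw [hWV] at h2
  obtain ⟨v, hv, rfl⟩ := h2
  intro e he m hm q
  have h3 := hC v hv e ((dim_fiber_eq H v).trans he) m hm q
  have hFL : Coh.IsCoh (CohB1.tensorMod F (CohB1.tensorPow L m)) :=
    Fga.TwistCoh.isCoh_tensor hF (isInvertible_tensorPow hL m)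
  have := hFL.1
  have h4 := PerfB.FiberBC.betti_eq H (CohB1.tensorMod F (CohB1.tensorPow L m)) _ (Iso.refl _) v q
    (FormalA.PullbackQC.isQCoh_pullback _ _ hFL.1)
  rw [betti_congr (pullback.snd f b)
    (CohqB.PullTwist471.nonempty_pull_twist (pullback.fst f b) F hL m)] at h4
  rw [h4] at h3
  exact h3

/-- **Uniform bound for the cohomology of the fibres of twists.** -/
theorem main (f : X ⟶ T) [IsNoetherian T] (r : ℕ)
    (ι : X ⟶ CohB1.ProjSpaceOver r T) [IsClosedImmersion ι]
    (hι : ι ≫ CohB1.ProjSpaceOver.toBase r T = f) {F L : X.Modules} (hF : Coh.IsCoh F)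
    (hL : PicF.IsInvertible L) : ∃ C : ℕ, ∀ t : T, Bd f F L C t := by
  have hp : IsProper f := by
    rw [← hι]
    have := Dix.ProjProper.isProper_toBase r T
    infer_instance
  exact StratBound.exists_bound (Bd f F L) (fun h hB => hB.mono h) (local_bound f r ι hι hF hL)

end K471.RelBound
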