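import Groth.Agent.Variety.K433.HqBase
import Groth.Agent.PerfC.RelFlat
import Groth.Agent.PerfB.FiberBC2
import Groth.Agent.PerfB.SemiNoeth
import Groth.Agent.Fdesc.FlatBC
import Groth.Agent.Ega3B.FlatTensInv
import Groth.Agent.FormalA.PullbackQC

/-!
# Dimensions of the cohomology of the fibres of twists

For `f : X ⟶ T` proper, `F` on `X`, `c` a class of invertible modules, `t : T`:
`bq f q F c t = dim H^q(X_t, (F ⊗ c)_t)`.

* `FlatNear f F t`: `F` is flat over `T` at all points above `t`.
* `shortExact_fiber`: restriction to the fibre of a short exact sequence with third term flat at the fibre.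
* `bq_mid_le`, `bq_left_le`, `near_left`: inequalities for such sequences.
* `exists_bdd`: `bq f q F c t` is bounded for `t` in an affine open over which `F` is flat.
-/

set_option autoImplicit false
universe u
open CategoryTheory CategoryTheory.Limits AlgebraicGeometry Opposite TopologicalSpace

namespace K471.RelFib

open Groth.Agent Groth.Agent.Ega2 Groth.Agent.Fdesc.LocGen Groth.Agent.Fga.RegSec
open Groth.Agent.CohqB.SerTw Groth.Agent.Grpsch.PicGrp K433.Hq
open Groth.Agent.Pic13.H946.Core (cokSeq cokSeq_shortExact support_tw)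
open scoped TensorProduct
open Groth.Agent.CycB.StalkExact Groth.Agent.Fdesc.PullbackStalk Groth.Agent.PerfC.RelFlat

variable {X T : Scheme.{u}}

/-- `F` is flat over `T` at all points above `t`. -/
def FlatNear (f : X ⟶ T) (F : X.Modules) (t : T) : Prop :=
  ∀ x : X, f x = t → FlatMod.IsFlatOverAt f F x

section local_mono

variable {P Y' Y : Scheme.{u}} {p : P ⟶ X} {q : P ⟶ Y'} {f : X ⟶ Y} {g : Y' ⟶ Y}

/-- `p^*` preserves the injectivity in a short exact sequence whose third term is flat over the base at the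
image of `p`. -/
theorem mono_pullback_map (H : IsPullback p q f g) (T : ShortComplex X.Modules) (hT : T.ShortExact)
    (h : ∀ z : P, FlatMod.IsFlatOverAt f T.X₃ (p.base z)) :
    Mono ((Scheme.Modules.pullback p).map T.f) := by
  apply PerfB.FlatPull.mono_of_stalkLin_injective
  intro z
  obtain ⟨h1, h2, h3⟩ := stalkLin_shortExact T hT (p.base z)
  letI := stalkAlg f (p.base z)
  letI : Algebra (Y.presheaf.stalk (f.base (p.base z))) (Y'.presheaf.stalk (q.base z)) :=
    (Fdesc.FlatBC.crossMap H.w z).hom.toAlgebra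
  letI := stalkAlg p z
  letI := stalkAlg q z
  letI : Algebra (Y.presheaf.stalk (f.base (p.base z))) (P.presheaf.stalk z) :=
    (f.stalkMap (p.base z) ≫ p.stalkMap z).hom.toAlgebra
  haveI : IsScalarTower (Y.presheaf.stalk (f.base (p.base z))) (X.presheaf.stalk (p.base z))
    (P.presheaf.stalk z) := IsScalarTower.of_algebraMap_eq fun _ => rfl
  haveI : IsScalarTower (Y.presheaf.stalk (f.base (p.base z))) (Y'.presheaf.stalk (q.base z))
    (P.presheaf.stalk z) := IsScalarTower.of_algebraMap_eq fun r =>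
      (ConcreteCategory.congr_hom (Fdesc.FlatBC.crossMap_comp H.w z) r).symm
  letI := FlatMod.moduleStalkOver f T.X₁ (p.base z)
  haveI := isScalarTower f T.X₁ (p.base z)
  letI := FlatMod.moduleStalkOver f T.X₂ (p.base z)
  haveI := isScalarTower f T.X₂ (p.base z)
  letI := FlatMod.moduleStalkOver f T.X₃ (p.base z)
  haveI := isScalarTower f T.X₃ (p.base z)
  haveI : Module.Flat (Y.presheaf.stalk (f.base (p.base z))) (T.X₃.presheaf.stalk (p.base z)) := h _
  have key := injective_cube (Fdesc.FlatBC.flat_productMap_stalk H z) (stalkLin T.f (p.base z))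
    (stalkLin T.g (p.base z)) h1 h2 h3
  letI := FlatMod.moduleStalkOver p ((Scheme.Modules.pullback p).obj T.X₁) z
  haveI := isScalarTower p ((Scheme.Modules.pullback p).obj T.X₁) z
  letI := FlatMod.moduleStalkOver p ((Scheme.Modules.pullback p).obj T.X₂) z
  haveI := isScalarTower p ((Scheme.Modules.pullback p).obj T.X₂) z
  have hc : ∀ x, stalkLin ((Scheme.Modules.pullback p).map T.f) z (stalkPullbackEquiv p T.X₁ z x) =
      stalkPullbackEquiv p T.X₂ z ((stalkLin T.f (p.base z)).baseChange (P.presheaf.stalk z) x) := by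
    intro x
    induction x with
    | zero => simp
    | add a b ha hb => simp only [map_add, ha, hb]
    | tmul t m =>
      rw [stalkPullbackEquiv_tmul, LinearMap.baseChange_tmul, stalkPullbackEquiv_tmul, map_smul,
        PerfB.FlatPull.stalkLin_pullback_canAdd]
  intro x y hxy
  obtain ⟨x, rfl⟩ := (stalkPullbackEquiv p T.X₁ z).surjective x
  obtain ⟨y, rfl⟩ := (stalkPullbackEquiv p T.X₁ z).surjective y
  rw [hc, hc] at hxy
  rw [key ((stalkPullbackEquiv p T.X₂ z).injective hxy)]

end local_mono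

/-- The fibre over `t` of a short exact sequence with third term flat above `t`. -/
theorem shortExact_fiber (f : X ⟶ T) (t : T) (S : ShortComplex X.Modules) (hS : S.ShortExact)
    (h : FlatNear f S.X₃ t) : (S.map (Scheme.Modules.pullback (f.fiberι t))).ShortExact := by
  have := hS.epi_g
  have H : IsPullback (f.fiberι t) (f.fiberToSpecResidueField t) f (T.fromSpecResidueField t) :=
    IsPullback.of_hasPullback _ _
  have : Mono ((S.map (Scheme.Modules.pullback (f.fiberι t))).f) :=
    mono_pullback_map H S hS fun z => h _ (by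
      have h1 : f.fiberι t z ∈ Set.range (f.fiberι t) := ⟨z, rfl⟩
      rw [f.range_fiberι t] at h1
      exact h1)
  have : Epi ((S.map (Scheme.Modules.pullback (f.fiberι t))).g) := by
    change Epi ((Scheme.Modules.pullback (f.fiberι t)).map S.g)
    infer_instance
  exact { exact := hS.exact.map_of_epi_of_preservesCokernel _ inferInstance inferInstance }

/-- Tensoring with an invertible module preserves flatness over the base. -/
theorem FlatNear.tensor {f : X ⟶ T} {t : T} {F L : X.Modules} (hL : PicF.IsInvertible L)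
    (hF : FlatNear f F t) : FlatNear f (CohB1.tensorMod F L) t := by
  intro x hxt
  obtain ⟨U, hx, ⟨e⟩⟩ := hL x
  let e1 : (CohB1.tensorMod F L).restrict U.ι ≅ F.restrict U.ι :=
    Groth.Agent.Ega3B.TensRestrict.restrictIso U.ι F L ≪≫
      Groth.Agent.Ega2.Tens.mapTIso (Iso.refl _) e ≪≫ Groth.Agent.Ega2.Tens.runit _
  have h1 := (Groth.Agent.Ega3B.FlatRestrict.isFlatOverAt_restrict_iff_comp f U.ι F ⟨x, hx⟩).mpr
    (hF x hxt)
  exact (Groth.Agent.Ega3B.FlatRestrict.isFlatOverAt_restrict_iff_comp f U.ι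
    (CohB1.tensorMod F L) ⟨x, hx⟩).mp
      (Groth.Agent.Models2.FlatIso.isFlatOverAt_of_iso (U.ι ≫ f) e1.symm ⟨x, hx⟩ h1)

/-! ### `bq` -/

section bq

variable (f : X ⟶ T)

/-- `dim H^q(X_t, (F ⊗ c)_t)`. -/
noncomputable def bq (q : ℕ) (F : X.Modules) (c : Pic X) (t : T) : ℕ :=
  PerfAux.betti f (CohB1.tensorMod F (rep c)) t q

/-- The fibre as a scheme over the residue field. -/
noncomputable local instance overFiber (t : T) :
    (f.fiber t).Over (Spec (CommRingCat.of (T.residueField t))) := ⟨f.fiberToSpecResidueField t⟩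

theorem betti_eq_hh (M : X.Modules) (t : T) (q : ℕ) :
    PerfAux.betti f M t q =
      hh (T.residueField t) ((Scheme.Modules.pullback (f.fiberι t)).obj M) q := rfl

theorem betti_congr {M N : X.Modules} (e : Nonempty (M ≅ N)) (t : T) (q : ℕ) :
    PerfAux.betti f M t q = PerfAux.betti f N t q := by
  obtain ⟨e⟩ := e
  rw [betti_eq_hh, betti_eq_hh]
  exact hh_iso _ ((Scheme.Modules.pullback (f.fiberι t)).mapIso e) q

theorem betti_congr_mc {M N : X.Modules} (h : Fga.PicMon.mc M = Fga.PicMon.mc N) (t : T) (q : ℕ) :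
    PerfAux.betti f M t q = PerfAux.betti f N t q :=
  betti_congr f ((Fga.PicMon.mc_eq_iff _ _).mp h) t q

theorem bq_mk (q : ℕ) (F : X.Modules) {P : X.Modules} (hP : PicF.IsInvertible P) (t : T) :
    bq f q F (mk P hP) t = PerfAux.betti f (CohB1.tensorMod F P) t q :=
  betti_congr_mc f (by rw [Fga.PicMon.mc_tensor, Fga.PicMon.mc_tensor, mc_rep hP rfl]) t q

theorem bq_one (q : ℕ) (F : X.Modules) (t : T) : bq f q F 1 t = PerfAux.betti f F t q :=
  betti_congr_mc f (by rw [Fga.PicMon.mc_tensor, mc_rep_one, mul_one]) t q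

theorem bq_congr (q : ℕ) {F G : X.Modules} (e : Nonempty (F ≅ G)) (c : Pic X) (t : T) :
    bq f q F c t = bq f q G c t :=
  betti_congr_mc f (by
    rw [Fga.PicMon.mc_tensor, Fga.PicMon.mc_tensor, (Fga.PicMon.mc_eq_iff F G).mpr e]) t q

theorem bq_tensor (q : ℕ) (F : X.Modules) {P : X.Modules} (hP : PicF.IsInvertible P) (c : Pic X)
    (t : T) : bq f q (CohB1.tensorMod F P) c t = bq f q F (mk P hP * c) t :=
  betti_congr_mc f (by
    rw [Fga.PicMon.mc_tensor, Fga.PicMon.mc_tensor, Fga.PicMon.mc_tensor, mc_rep_mul, mc_rep hP rfl,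
      mul_assoc]) t q

theorem bq_tensor' (q : ℕ) (F : X.Modules) {P : X.Modules} (hP : PicF.IsInvertible P) (c : Pic X)
    (t : T) : bq f q (CohB1.tensorMod P F) c t = bq f q F (mk P hP * c) t := by
  rw [← bq_tensor]
  exact bq_congr f q ⟨Tens.swap _ _⟩ c t

/-- The fibre of a module with support away from the fibre. -/
theorem betti_eq_zero (q : ℕ) {M : X.Modules} (t : T)
    (h : ∀ x ∈ CohB1.support M, f x ≠ t) : PerfAux.betti f M t q = 0 := by
  rw [betti_eq_hh]
  refine hh_zero _ (CohqB.DevSupport.isZero_of_support_eq_empty ?_) q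
  rw [Set.eq_empty_iff_forall_notMem]
  intro z hz
  have h1 : f.fiberι t z ∈ CohB1.support M := by
    intro hcon
    apply hz
    letI := stalkAlg (f.fiberι t) z
    have : Subsingleton (((f.fiber t).presheaf.stalk z) ⊗[X.presheaf.stalk ((f.fiberι t).base z)]
        (M.presheaf.stalk ((f.fiberι t).base z))) := by
      have : Subsingleton (M.presheaf.stalk ((f.fiberι t).base z)) := hcon
      refine subsingleton_of_forall_eq 0 fun a => ?_
      induction a with
      | zero => rfl
      | tmul s m => rw [Subsingleton.elim m 0, TensorProduct.tmul_zero]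
      | add a b ha hb => rw [ha, hb, add_zero]
    exact (stalkPullbackEquiv (f.fiberι t) M z).symm.toEquiv.subsingleton
  refine h _ h1 ?_
  have h2 : f.fiberι t z ∈ Set.range (f.fiberι t) := ⟨z, rfl⟩
  rw [f.range_fiberι t] at h2
  exact h2

theorem bq_eq_zero (q : ℕ) {F : X.Modules} (c : Pic X) (t : T)
    (h : ∀ x ∈ CohB1.support F, f x ≠ t) : bq f q F c t = 0 :=
  betti_eq_zero f q t fun x hx => h x (by rwa [support_tw (rep_inv c)] at hx)

variable [IsProper f]

instance properFiber (t : T) :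
    IsProper (f.fiber t ↘ Spec (CommRingCat.of (T.residueField t))) :=
  MorphismProperty.of_isPullback (P := @IsProper)
    (IsPullback.of_hasPullback f (T.fromSpecResidueField t)) inferInstance

variable {f}

theorem bq_mid_le {S : ShortComplex X.Modules} (hS : S.ShortExact) (h1 : Coh.IsCoh S.X₁)
    (h2 : Coh.IsCoh S.X₂) (h3 : Coh.IsCoh S.X₃) {t : T} (hfl : FlatNear f S.X₃ t) (q : ℕ) (c : Pic X) :
    bq f q S.X₂ c t ≤ bq f q S.X₁ c t + bq f q S.X₃ c t :=
  hh_mid_le (T.residueField t) ((S.map (tw (rep c))).map (Scheme.Modules.pullback (f.fiberι t)))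
    (shortExact_fiber f t _ (shortExact_tw (rep_inv c) hS) (hfl.tensor (rep_inv c)))
    (FormalA.PullbackQC.isCoh_pullback _ _ (Fga.TwistCoh.isCoh_tensor h1 (rep_inv c)))
    (FormalA.PullbackQC.isCoh_pullback _ _ (Fga.TwistCoh.isCoh_tensor h2 (rep_inv c)))
    (FormalA.PullbackQC.isCoh_pullback _ _ (Fga.TwistCoh.isCoh_tensor h3 (rep_inv c))) q

theorem bq_left_le {S : ShortComplex X.Modules} (hS : S.ShortExact) (h1 : Coh.IsCoh S.X₁)
    (h2 : Coh.IsCoh S.X₂) (h3 : Coh.IsCoh S.X₃) {t : T} (hfl : FlatNear f S.X₃ t) (q : ℕ) (c : Pic X) :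
    bq f q S.X₁ c t ≤ bq f q S.X₂ c t + bq f (q - 1) S.X₃ c t :=
  hh_left_le (T.residueField t) ((S.map (tw (rep c))).map (Scheme.Modules.pullback (f.fiberι t)))
    (shortExact_fiber f t _ (shortExact_tw (rep_inv c) hS) (hfl.tensor (rep_inv c)))
    (FormalA.PullbackQC.isCoh_pullback _ _ (Fga.TwistCoh.isCoh_tensor h1 (rep_inv c)))
    (FormalA.PullbackQC.isCoh_pullback _ _ (Fga.TwistCoh.isCoh_tensor h2 (rep_inv c)))
    (FormalA.PullbackQC.isCoh_pullback _ _ (Fga.TwistCoh.isCoh_tensor h3 (rep_inv c))) q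

/-- Passing to a submodule. -/
theorem near_left {S : ShortComplex X.Modules} (hS : S.ShortExact) (h1 : Coh.IsCoh S.X₁)
    (h2 : Coh.IsCoh S.X₂) (h3 : Coh.IsCoh S.X₃) {t : T} (hfl : FlatNear f S.X₃ t) (q : ℕ) (c : Pic X) :
    Near (bq f q S.X₁ c t) (bq f q S.X₂ c t) (bq f (q - 1) S.X₃ c t + bq f q S.X₃ c t) := by
  have a := bq_mid_le hS h1 h2 h3 hfl q c
  have b := bq_left_le hS h1 h2 h3 hfl q c
  unfold Near; omega

/-- The fibre cohomology of a module flat over an affine open of the base is bounded. -/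
theorem exists_bdd [IsLocallyNoetherian T] {F : X.Modules} (hF : Coh.IsCoh F) {V : T.Opens}
    (hV : IsAffineOpen V) (h : ∀ t ∈ V, FlatNear f F t) (q : ℕ) :
    ∃ C : ℕ, ∀ t ∈ V, PerfAux.betti f F t q ≤ C := by
  let j : Spec (CommRingCat.of Γ(T, V)) ⟶ T := hV.fromSpec
  have hpb := IsPullback.of_hasPullback f j
  have hj : ∀ s, j s ∈ V := fun s => by
    have h1 : j s ∈ j.opensRange := ⟨s, rfl⟩
    rwa [show j.opensRange = V from hV.opensRange_fromSpec] at h1
  have hN : IsNoetherianRing Γ(T, V) := IsLocallyNoetherian.component_noetherian ⟨V, hV⟩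
  have hflat' : FlatMod.IsFlatOver (pullback.snd f j)
      ((Scheme.Modules.pullback (pullback.fst f j)).obj F) := fun z =>
    Fdesc.FlatBC.isFlatOverAt_pullback hpb F z (h _ (by
      have h1 : f (pullback.fst f j z) = j (pullback.snd f j z) := by
        rw [← Scheme.Hom.comp_apply, ← Scheme.Hom.comp_apply, pullback.condition]
      exact h1 ▸ hj _) _ rfl)
  have hF' := FormalA.PullbackQC.isCoh_pullback (pullback.fst f j) F hF
  have hopen := PerfB.SemiNoeth.isOpen_betti_lt (pullback.snd f j) _ hF' hflat' q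
  have := hF.1
  have key : ∀ s, PerfAux.betti (pullback.snd f j)
      ((Scheme.Modules.pullback (pullback.fst f j)).obj F) s q = PerfAux.betti f F (j s) q := fun s =>
    PerfB.FiberBC.betti_eq hpb F _ (Iso.refl _) s q
      (FormalA.PullbackQC.isQCoh_pullback _ F hF.1)
  obtain ⟨n, hn⟩ := isCompact_univ.elim_directed_cover
    (fun n : ℕ => {s | PerfAux.betti (pullback.snd f j)
      ((Scheme.Modules.pullback (pullback.fst f j)).obj F) s q < n}) hopen
    (fun s _ => Set.mem_iUnion.mpr ⟨_, Nat.lt_succ_self _⟩)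
    (directed_of_isDirected_le fun a b hab s hs => lt_of_lt_of_le hs hab)
  refine ⟨n, fun t ht => ?_⟩
  have h2 := hn (Set.mem_univ (hV.primeIdealOf ⟨t, ht⟩))
  rw [Set.mem_ofPred_eq, key] at h2
  have h3 : j (hV.primeIdealOf ⟨t, ht⟩) = t := hV.fromSpec_primeIdealOf ⟨t, ht⟩
  rw [h3] at h2
  exact h2.le

end bq

end K471.RelFib
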