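import Groth.Agent.Coherent.K471.RelFib
import Groth.Agent.Variety.K433.GrowthBound
import Groth.Agent.S4799
import Groth.Agent.CohqA.FinSec

/-!
# Growth of the cohomology of the fibres of powers, near the generic point

`f : X ⟶ T` proper, `T` integral and locally Noetherian with generic point `η`, `X` with an ample module.
* `DimLT f η e F`: `dim (Supp F ∩ f⁻¹(η)) < e`.
* `exists_diff`: `h^q((F ⊗ g ⊗ c)_t)` and `h^q((F ⊗ c)_t)` differ by the cohomology of the fibres of twists of two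
  modules of smaller dimension over `η`, for all `t` in a neighbourhood of `η`, uniformly in `c`.
* `bound_pow`: `h^q((F ⊗ g^m)_t) ≤ C (m+1)^{e-1}` for all `t` in a neighbourhood of `η` and all `m`.
-/

set_option autoImplicit false
universe u
open CategoryTheory CategoryTheory.Limits AlgebraicGeometry Opposite TopologicalSpace

namespace K471.RelGrow

open Groth.Agent Groth.Agent.Ega2 Groth.Agent.Fdesc.LocGen Groth.Agent.Fga.RegSec
open Groth.Agent.CohqB.SerTw Groth.Agent.Grpsch.PicGrp K433.Hq K471.RelFib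
open Groth.Agent.Pic13.H946.Core (cokSeq cokSeq_shortExact support_tw)
open K433.Growth (dim_diff_lt topologicalKrullDim_nonneg phi phi_zero phi_succ phi_mono_right mul_phi_le
  one_le_phi_succ)

variable {X T : Scheme.{u}}

/-- `dim (Supp F ∩ f⁻¹(η)) < e`. -/
def DimLT (f : X ⟶ T) (η : T) (e : ℕ) (F : X.Modules) : Prop :=
  topologicalKrullDim (CohB1.support F ∩ f ⁻¹' {η} : Set X) < (e : WithBot ℕ∞)

theorem DimLT.mono_support {f : X ⟶ T} {η : T} {e : ℕ} {F G : X.Modules} (h : DimLT f η e F)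
    (hs : CohB1.support G ⊆ CohB1.support F) : DimLT f η e G :=
  (Fga.DimLt.topologicalKrullDim_mono (Set.inter_subset_inter_left _ hs)).trans_lt h

theorem DimLT.eq_empty {f : X ⟶ T} {η : T} {F : X.Modules} (h : DimLT f η 0 F) :
    CohB1.support F ∩ f ⁻¹' {η} = ∅ := by
  by_contra hne
  have : Nonempty (CohB1.support F ∩ f ⁻¹' {η} : Set X) :=
    (Set.nonempty_iff_ne_empty.mpr hne).to_subtype
  have h1 : (0 : WithBot ℕ∞) ≤ topologicalKrullDim (CohB1.support F ∩ f ⁻¹' {η} : Set X) :=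
    topologicalKrullDim_nonneg
  exact absurd (h1.trans_lt h) (lt_irrefl _)

theorem DimLT.tensor {f : X ⟶ T} {η : T} {e : ℕ} {F : X.Modules} (h : DimLT f η e F) {N : X.Modules}
    (hN : PicF.IsInvertible N) : DimLT f η e (CohB1.tensorMod F N) := by
  unfold DimLT; rwa [support_tw hN]

theorem isFP_of_isCoh [IsLocallyNoetherian X] {M : X.Modules} (h : Coh.IsCoh M) : CohB1.IsFP M := by
  refine Groth.Agent.CohqA.FinSec.isFP_of_finitePresentation h.1 fun x => ?_
  obtain ⟨U, hU, hx, -⟩ := exists_isAffineOpen_mem_and_subset (U := (⊤ : X.Opens)) (x := x) trivial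
  refine ⟨U, hU, hx, ?_⟩
  have : IsNoetherianRing Γ(X, U) := IsLocallyNoetherian.component_noetherian ⟨U, hU⟩
  have := Groth.Agent.CohqA.FinSec.finite_sections hU h.1 h.2
  exact Module.finitePresentation_of_finite _ _

variable (f : X ⟶ T) [IsProper f] [IsLocallyNoetherian T]

/-- Multiplication by a section generating at the associated points, on the fibres over which the cokernel is
flat. -/
theorem mulS_near [IsLocallyNoetherian X] {B : X.Modules} (hB : PicF.IsInvertible B)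
    (s : Coh.structureModule X ⟶ B)
    {F : X.Modules} (hF : Coh.IsCoh F) (hAss : AssSch.Ass F ⊆ CohB1.genLocus B s) :
    Coh.IsCoh (cokernel (mulS s F)) ∧
      CohB1.support (cokernel (mulS s F)) = CohB1.support F \ CohB1.genLocus B s ∧
      ∀ t : T, FlatNear f (cokernel (mulS s F)) t → ∀ (q : ℕ) (c : Pic X),
        Near (bq f q F (mk B hB * c) t) (bq f q F c t)
          (bq f (q - 1) (cokernel (mulS s F)) c t + bq f q (cokernel (mulS s F)) c t) := by
  have hBF : Coh.IsCoh (CohB1.tensorMod B F) :=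
    Sga67.CohBasic.isCoh_of_iso (Ega2.Tens.swap F _) (Fga.TwistCoh.isCoh_tensor hF hB)
  have hmono : Mono (mulS s F) := mulS_mono s F hF (Sga67.CohBasic.isCoh_kernel _ hF hBF.1).1 hAss
  have hC : Coh.IsCoh (cokernel (mulS s F)) := isCoh_cokernel (mulS s F) hF.1 hBF
  refine ⟨hC, support_cokernel_mulS s F hB hF.2, fun t ht q c => ?_⟩
  have h := near_left (cokSeq_shortExact (mulS s F)) hF hBF hC ht q c
  have e : bq f q (cokSeq (mulS s F)).X₂ c t = bq f q F (mk B hB * c) t := bq_tensor' f q F hB c t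
  rw [e] at h
  exact h.symm

/-- Generic flatness for coherent modules. -/
theorem exists_flat [IsIntegral T] [IsLocallyNoetherian X] {F : X.Modules} (hF : Coh.IsCoh F) :
    ∃ V : T.Opens, genericPoint T ∈ V ∧ ∀ t ∈ V, FlatNear f F t := by
  have : LocallyOfFinitePresentation f := LocallyOfFinitePresentation.iff_locallyOfFiniteType.mpr inferInstance
  have := hF.1
  obtain ⟨V, hV, h⟩ := S4799.result f F (isFP_of_isCoh hF)
  refine ⟨V, (genericPoint_spec T).mem_open_set_iff V.isOpen |>.mpr (by simpa using hV), ?_⟩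
  intro t ht x hx
  exact h x (hx.symm ▸ ht)

/-- The fibres of a coherent module with support away from the generic fibre. -/
theorem exists_zero (η : T) {F : X.Modules} (hF : Coh.IsCoh F)
    (h : CohB1.support F ∩ f ⁻¹' {η} = ∅) :
    ∃ V : T.Opens, η ∈ V ∧ ∀ t ∈ V, ∀ (q : ℕ) (c : Pic X), bq f q F c t = 0 := by
  have h1 : IsClosed (f '' CohB1.support F) := f.isClosedMap _ (S0020.result X F hF.2)
  refine ⟨⟨(f '' CohB1.support F)ᶜ, h1.isOpen_compl⟩, ?_, fun t ht q c => ?_⟩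
  · rintro ⟨x, hx, hxη⟩
    have : x ∈ CohB1.support F ∩ f ⁻¹' {η} := ⟨hx, hxη⟩
    rw [h] at this
    exact this
  · exact bq_eq_zero f q c t fun x hx hxt => ht ⟨x, hx, hxt⟩

/-- Twisting by a fixed class changes the cohomology of the fibres near the generic point by the cohomology of
modules of smaller dimension. -/
theorem exists_diff [IsIntegral T] [CompactSpace X] [X.IsSeparated] {A : X.Modules}
    (hA : CohB1.IsAmple A) {F : X.Modules} (hF : Coh.IsCoh F) {e : ℕ}
    (he : DimLT f (genericPoint T) (e + 1) F) (g : Pic X) :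
    ∃ (V : T.Opens) (_ : genericPoint T ∈ V) (G₁ G₂ : X.Modules), Coh.IsCoh G₁ ∧ Coh.IsCoh G₂ ∧
      DimLT f (genericPoint T) e G₁ ∧ DimLT f (genericPoint T) e G₂ ∧
      ∀ t ∈ V, ∀ (q : ℕ) (c : Pic X), Near (bq f q F (g * c) t) (bq f q F c t)
        ((bq f (q - 1) G₁ c t + bq f q G₁ c t) + (bq f (q - 1) G₂ c t + bq f q G₂ c t)) := by
  have : IsLocallyNoetherian X := LocallyOfFiniteType.isLocallyNoetherian f
  have : IsNoetherian X := {}
  set T' : Set X := CohB1.support F ∩ f ⁻¹' {genericPoint T} with hTdef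
  have hTn : NoetherianSpace T' := inferInstance
  have hcomp : (irreducibleComponents T').Finite := NoetherianSpace.finite_irreducibleComponents
  have hfc : Finite (irreducibleComponents T') := hcomp
  have hch : ∀ Z : irreducibleComponents T', ∃ z : T', z ∈ Z.1 := fun Z => Z.2.1.nonempty
  choose z hz using hch
  obtain ⟨B, B', hB, hB', s, s', hg, hZ, hZ'⟩ := K433.TwistSec.exists_twist_pic hA
    (AssSch.Ass F ∪ Set.range fun Z => (z Z : X))
    ((Fdesc.SubFilt.finite_ass hF).union (Set.finite_range _)) g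
  -- the two cokernels
  have hdim : ∀ {N : X.Modules} (t : Coh.structureModule X ⟶ N),
      (AssSch.Ass F ∪ Set.range fun Z => (z Z : X)) ⊆ CohB1.genLocus N t →
      ∀ G : X.Modules, CohB1.support G = CohB1.support F \ CohB1.genLocus _ t →
        DimLT f (genericPoint T) e G := by
    intro N t ht G hG
    have h1 : CohB1.support G ∩ f ⁻¹' {genericPoint T} ⊆ T' \ CohB1.genLocus N t := by
      rintro y ⟨hy, hyη⟩
      rw [hG] at hy
      exact ⟨⟨hy.1, hyη⟩, hy.2⟩
    refine (Fga.DimLt.topologicalKrullDim_mono h1).trans_lt ?_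
    refine dim_diff_lt (CohB1.genLocus N t : Set X) (CohB1.genLocus N t).isOpen ?_ he
    intro Z' hZ'
    exact ⟨z ⟨Z', hZ'⟩, hz ⟨Z', hZ'⟩, ht (Or.inr ⟨⟨Z', hZ'⟩, rfl⟩)⟩
  obtain ⟨hC, hCs, hn⟩ := mulS_near f hB s hF (Set.subset_union_left.trans hZ)
  obtain ⟨hC', hCs', hn'⟩ := mulS_near f hB' s' hF (Set.subset_union_left.trans hZ')
  obtain ⟨V₁, hV₁, hfl⟩ := exists_flat f hC
  obtain ⟨V₂, hV₂, hfl'⟩ := exists_flat f hC'
  set b : Pic X := mk _ hB with hb
  set b' : Pic X := mk _ hB' with hb'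
  refine ⟨V₁ ⊓ V₂, ⟨hV₁, hV₂⟩, CohB1.tensorMod (cokernel (mulS s' F)) (rep b⁻¹),
    CohB1.tensorMod (cokernel (mulS s F)) (rep b⁻¹), Fga.TwistCoh.isCoh_tensor hC' (rep_inv _),
    Fga.TwistCoh.isCoh_tensor hC (rep_inv _), (hdim s' hZ' _ hCs').tensor (rep_inv _),
    (hdim s hZ _ hCs).tensor (rep_inv _), fun t ht q c => ?_⟩
  have h1 := hn' t (hfl' t ht.2) q (b⁻¹ * c)
  have h2 := hn t (hfl t ht.1) q (b⁻¹ * c)
  rw [hg] at h1
  have e1 : g * b * (b⁻¹ * c) = g * c := by
    rw [mul_assoc, mul_inv_cancel_left]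
  rw [e1] at h1
  rw [mul_inv_cancel_left] at h2
  rw [bq_tensor f _ _ (rep_inv _), bq_tensor f _ _ (rep_inv _), bq_tensor f _ _ (rep_inv _),
    bq_tensor f _ _ (rep_inv _), mk_rep]
  exact h1.trans h2.symm

/-- **Growth of the cohomology of the fibres near the generic point.** -/
theorem bound_pow [IsIntegral T] [CompactSpace X] [X.IsSeparated] {A : X.Modules}
    (hA : CohB1.IsAmple A) (g : Pic X) (e : ℕ) :
    ∀ {F : X.Modules} (_ : Coh.IsCoh F) (_ : DimLT f (genericPoint T) e F) (q : ℕ),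
      ∃ (V : T.Opens) (_ : genericPoint T ∈ V) (C : ℕ), ∀ t ∈ V, ∀ m : ℕ,
        bq f q F (g ^ m) t ≤ C * phi e m := by
  have : IsLocallyNoetherian X := LocallyOfFiniteType.isLocallyNoetherian f
  induction e with
  | zero =>
    intro F hF he q
    obtain ⟨V, hV, h⟩ := exists_zero f (genericPoint T) hF he.eq_empty
    exact ⟨V, hV, 0, fun t ht m => by rw [h t ht]; exact Nat.zero_le _⟩
  | succ e ih =>
    intro F hF he q
    obtain ⟨V₀, hV₀, G₁, G₂, hG₁, hG₂, he₁, he₂, hn⟩ := exists_diff f hA hF he g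
    obtain ⟨V₁, hV₁, C₁, hC₁⟩ := ih hG₁ he₁ (q - 1)
    obtain ⟨V₂, hV₂, C₂, hC₂⟩ := ih hG₁ he₁ q
    obtain ⟨V₃, hV₃, C₃, hC₃⟩ := ih hG₂ he₂ (q - 1)
    obtain ⟨V₄, hV₄, C₄, hC₄⟩ := ih hG₂ he₂ q
    obtain ⟨V₅, hV₅, hfl⟩ := exists_flat f hF
    obtain ⟨V₆, hV₆, hηV₆, hle⟩ := exists_isAffineOpen_mem_and_subset hV₅
    obtain ⟨C₀, hC₀⟩ := exists_bdd hF hV₆ (fun t ht => hfl t (hle ht)) q
    let D : ℕ := (C₁ + C₂) + (C₃ + C₄)
    refine ⟨V₀ ⊓ ((V₁ ⊓ V₂) ⊓ (V₃ ⊓ V₄)) ⊓ V₆,
      ⟨⟨hV₀, ⟨⟨hV₁, hV₂⟩, ⟨hV₃, hV₄⟩⟩⟩, hηV₆⟩, C₀ + D, ?_⟩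
    rintro t ⟨⟨ht0, ⟨⟨ht1, ht2⟩, ⟨ht3, ht4⟩⟩⟩, ht6⟩ m
    have key : ∀ m : ℕ, bq f q F (g ^ m) t ≤ C₀ + m * (D * phi e m) := by
      intro m
      induction m with
      | zero =>
        rw [pow_zero, bq_one]
        exact (hC₀ t ht6).trans (Nat.le_add_right _ _)
      | succ m ih' =>
        have h1 := (hn t ht0 q (g ^ m)).1
        rw [← pow_succ'] at h1
        refine h1.trans ?_
        have h2 : (bq f (q - 1) G₁ (g ^ m) t + bq f q G₁ (g ^ m) t) +
            (bq f (q - 1) G₂ (g ^ m) t + bq f q G₂ (g ^ m) t) ≤ D * phi e m := by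
          refine le_trans (Nat.add_le_add (Nat.add_le_add (hC₁ t ht1 m) (hC₂ t ht2 m))
            (Nat.add_le_add (hC₃ t ht3 m) (hC₄ t ht4 m))) ?_
          rw [← add_mul, ← add_mul, ← add_mul]
        have h3 : D * phi e m ≤ D * phi e (m + 1) :=
          Nat.mul_le_mul_left _ (phi_mono_right e (Nat.le_succ _))
        calc _ ≤ (C₀ + m * (D * phi e m)) + D * phi e m := Nat.add_le_add ih' h2
          _ ≤ (C₀ + m * (D * phi e (m + 1))) + D * phi e (m + 1) :=
            Nat.add_le_add (Nat.add_le_add_left (Nat.mul_le_mul_left _ h3) _) h3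
          _ = _ := by ring
    have h5 : m * (D * phi e m) ≤ D * phi (e + 1) m := by
      calc m * (D * phi e m) = D * (m * phi e m) := by ring
        _ ≤ _ := Nat.mul_le_mul_left _ (mul_phi_le e _)
    have h6 : C₀ ≤ C₀ * phi (e + 1) m := Nat.le_mul_of_pos_right _ (one_le_phi_succ _ _)
    calc bq f q F (g ^ m) t ≤ C₀ + m * (D * phi e m) := key m
      _ ≤ C₀ * phi (e + 1) m + D * phi (e + 1) m := Nat.add_le_add h6 h5
      _ = (C₀ + D) * phi (e + 1) m := (add_mul _ _ _).symm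

end K471.RelGrow
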