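import Groth.Agent.Krr.H484.PnHom
import Groth.Agent.Mor.K385.VeryAmpleBC
import Groth.Agent.Ega3B.FibreSpread
import Groth.Agent.Ega1.AmpFam

/-!
# A family of sections giving a closed immersion on one fibre gives one nearby

* `exists_lift`: sections `s_j` of `L` on `X` generating it give `φ : X ⟶ P^n_S` over `S` with `φ^* O(1) ≅ L`.
* `near_of_gen`: `f : X ⟶ Y` proper, `s_j` generate `L` and restrict on the fibre over `y` to the sections
  given by a closed immersion into `P^n`; then `L` is very ample relative to some projective space near `y`.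
* `near`: the same without assuming that the `s_j` generate.
-/

set_option autoImplicit false
universe u
open CategoryTheory CategoryTheory.Limits AlgebraicGeometry TopologicalSpace Opposite
open Groth.Agent.Fdesc.LocGen

namespace K471.VaNear

open Groth.Agent.Krr.H484.PnHom Groth.Agent.Dix.ProjProper Groth.Agent.K385.VeryAmpleBC
open Groth.Agent.Ega3B.FibreSpread

variable {X Y T F : Scheme.{u}}

/-- Changing the morphism in the pull-back of sections along an equality. -/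
theorem pullTop_congr {f f' : T ⟶ X} (h : f = f') {L : X.Modules} (s : Γ(L, ⊤)) :
    ((Scheme.Modules.pullbackCongr h).hom.app L).app ⊤ (pullTop f s) = pullTop f' s := by
  subst h
  have : (Scheme.Modules.pullbackCongr (rfl : f = f)).hom.app L = 𝟙 _ := by
    simp [Scheme.Modules.pullbackCongr]
  rw [this]
  rfl

theorem pullTop_comp (f : T ⟶ X) (g : X ⟶ Y) {L : Y.Modules} (s : Γ(L, ⊤)) :
    ((Scheme.Modules.pullbackComp f g).hom.app L).app ⊤ (pullTop f (pullTop g s)) =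
      pullTop (f ≫ g) s :=
  pullSec_comp' f g (U := ⊤) s

theorem map_pullTop (f : T ⟶ X) {L M : X.Modules} (φ : L ⟶ M) (s : Γ(L, ⊤)) :
    ((Scheme.Modules.pullback f).map φ).app ⊤ (pullTop f s) = pullTop f (φ.app ⊤ s) :=
  pullback_map_pullSec f φ (U := ⊤) s

/-- Sections generating `L` give a morphism to `P^n_ℤ`. -/
theorem exists_toZ (L : X.Modules) {n : ℕ} (s : Fin (n + 1) → Γ(L, ⊤))
    (hs : ⨆ i, CohB1.genLocus L (homOf (s i)) = ⊤) :
    ∃ (φ : X ⟶ CohB1.ProjSpace n (ULift.{u} ℤ))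
      (e : (Scheme.Modules.pullback φ).obj (Twist.twistProjSpace n (ULift.{u} ℤ) 1) ≅ L), ∀ i,
        e.hom.app ⊤ (pullTop φ (coordSec n (ULift.{u} ℤ) i)) = s i := by
  obtain ⟨φ, -, e, he⟩ := exists_hom (specULiftZIsTerminal.from X) L s hs
  exact ⟨φ, e, he⟩

theorem toZ_unique {n : ℕ} {L : X.Modules} {s : Fin (n + 1) → Γ(L, ⊤)}
    {φ φ' : X ⟶ CohB1.ProjSpace n (ULift.{u} ℤ)}
    (e : (Scheme.Modules.pullback φ).obj (Twist.twistProjSpace n (ULift.{u} ℤ) 1) ≅ L)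
    (e' : (Scheme.Modules.pullback φ').obj (Twist.twistProjSpace n (ULift.{u} ℤ) 1) ≅ L)
    (he : ∀ i, e.hom.app ⊤ (pullTop φ (coordSec n (ULift.{u} ℤ) i)) = s i)
    (he' : ∀ i, e'.hom.app ⊤ (pullTop φ' (coordSec n (ULift.{u} ℤ) i)) = s i) : φ = φ' :=
  hom_unique (g := specULiftZIsTerminal.from X) (specULiftZIsTerminal.hom_ext _ _)
    (specULiftZIsTerminal.hom_ext _ _) e e' he he'

/-- A morphism to `P^n_S` given by a morphism to `P^n_ℤ` and one to `S`. -/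
noncomputable def toOver {n : ℕ} (φ : X ⟶ CohB1.ProjSpace n (ULift.{u} ℤ)) (f : X ⟶ Y) :
    X ⟶ CohB1.ProjSpaceOver n Y :=
  (isPullback_toZ n Y).lift φ f (specULiftZIsTerminal.hom_ext _ _)

@[reassoc (attr := simp)]
theorem toOver_toZ {n : ℕ} (φ : X ⟶ CohB1.ProjSpace n (ULift.{u} ℤ)) (f : X ⟶ Y) :
    toOver φ f ≫ toZ n Y = φ := (isPullback_toZ n Y).lift_fst _ _ _

@[reassoc (attr := simp)]
theorem toOver_toBase {n : ℕ} (φ : X ⟶ CohB1.ProjSpace n (ULift.{u} ℤ)) (f : X ⟶ Y) :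
    toOver φ f ≫ CohB1.ProjSpaceOver.toBase n Y = f := (isPullback_toZ n Y).lift_snd _ _ _

theorem isPullback_toOver {n : ℕ} {f : X ⟶ Y} {b : T ⟶ Y} {g : F ⟶ X} {q : F ⟶ T}
    (H : IsPullback g q f b) (φ : X ⟶ CohB1.ProjSpace n (ULift.{u} ℤ))
    (ψ : F ⟶ CohB1.ProjSpace n (ULift.{u} ℤ)) (hψ : g ≫ φ = ψ) :
    IsPullback g (toOver ψ q) (toOver φ f) (mapBase n b) := by
  have hw : g ≫ toOver φ f = toOver ψ q ≫ mapBase n b := by
    apply (isPullback_toZ n Y).hom_ext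
    · rw [Category.assoc, Category.assoc, toOver_toZ, mapBase_toZ, toOver_toZ, hψ]
    · rw [Category.assoc, Category.assoc, toOver_toBase, mapBase_toBase, toOver_toBase_assoc, H.w]
  refine IsPullback.of_bot (h₃₁ := b) (v₂₁ := CohB1.ProjSpaceOver.toBase n T)
    (v₂₂ := CohB1.ProjSpaceOver.toBase n Y) ?_ hw (isPullback_mapBase n b)
  rw [toOver_toBase, toOver_toBase]
  exact H

/-- `L` is very ample if the morphism given by sections is an immersion. -/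
theorem isRelVeryAmplePn_of (f : X ⟶ Y) {n : ℕ} {L : X.Modules}
    (φ : X ⟶ CohB1.ProjSpace n (ULift.{u} ℤ))
    (e : (Scheme.Modules.pullback φ).obj (Twist.twistProjSpace n (ULift.{u} ℤ) 1) ≅ L)
    (h : IsImmersion (toOver φ f)) : RelAmple.IsRelVeryAmplePn f L :=
  ⟨n, toOver φ f, h, toOver_toBase φ f, ⟨e.symm ≪≫
    (Scheme.Modules.pullbackCongr (toOver_toZ φ f).symm).app _ ≪≫
    ((Scheme.Modules.pullbackComp (toOver φ f) (toZ n Y)).app _).symm⟩⟩

/-- **Spreading out of a closed immersion given by generating sections.** -/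
theorem near_of_gen (f : X ⟶ Y) [IsProper f] (y : Y) {b : T ⟶ Y} {g : F ⟶ X} {q : F ⟶ T}
    (H : IsPullback g q f b) (c : Spec (Y.residueField y) ⟶ T) (hc : c ≫ b = Y.fromSpecResidueField y)
    (L : X.Modules) {n : ℕ} (s : Fin (n + 1) → Γ(L, ⊤))
    (hs : ⨆ i, CohB1.genLocus L (homOf (s i)) = ⊤)
    (ψ : F ⟶ CohB1.ProjSpace n (ULift.{u} ℤ)) (hψ : IsClosedImmersion (toOver ψ q))
    (e : (Scheme.Modules.pullback ψ).obj (Twist.twistProjSpace n (ULift.{u} ℤ) 1) ≅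
      (Scheme.Modules.pullback g).obj L)
    (he : ∀ i, e.hom.app ⊤ (pullTop ψ (coordSec n (ULift.{u} ℤ) i)) = pullTop g (s i)) :
    ∃ U : Y.Opens, y ∈ U ∧ RelAmple.IsRelVeryAmplePn (f ∣_ U) (L.restrict (f ⁻¹ᵁ U).ι) := by
  obtain ⟨φ, e0, he0⟩ := exists_toZ L s hs
  have hgφ : g ≫ φ = ψ := by
    refine toZ_unique (((Scheme.Modules.pullbackComp g φ).app _).symm ≪≫
      (Scheme.Modules.pullback g).mapIso e0) e (fun i => ?_) he
    have h1 : ((Scheme.Modules.pullbackComp g φ).inv.app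
        (Twist.twistProjSpace n (ULift.{u} ℤ) 1)).app ⊤
          (pullTop (g ≫ φ) (coordSec n (ULift.{u} ℤ) i)) =
        pullTop g (pullTop φ (coordSec n (ULift.{u} ℤ) i)) :=
      pullSec_comp g φ (U := ⊤) (coordSec n (ULift.{u} ℤ) i)
    have h2 : ((((Scheme.Modules.pullbackComp g φ).app
        (Twist.twistProjSpace n (ULift.{u} ℤ) 1)).symm ≪≫
          (Scheme.Modules.pullback g).mapIso e0).hom).app ⊤
          (pullTop (g ≫ φ) (coordSec n (ULift.{u} ℤ) i)) =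
        ((Scheme.Modules.pullback g).map e0.hom).app ⊤
          (((Scheme.Modules.pullbackComp g φ).inv.app
            (Twist.twistProjSpace n (ULift.{u} ℤ) 1)).app ⊤
            (pullTop (g ≫ φ) (coordSec n (ULift.{u} ℤ) i))) := rfl
    rw [h2, h1, map_pullTop, he0]
  have H1 := isPullback_toOver H φ ψ hgφ
  let pr := CohB1.ProjSpaceOver.toBase n Y
  let γ : pr.fiber y ⟶ CohB1.ProjSpaceOver n T :=
    (isPullback_mapBase n b).lift (pr.fiberι y) (pr.fiberToSpecResidueField y ≫ c) (by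
      rw [Category.assoc, hc]
      exact (IsPullback.of_hasPullback pr (Y.fromSpecResidueField y)).w)
  have hγ : γ ≫ mapBase n b = pr.fiberι y := (isPullback_mapBase n b).lift_fst _ _ _
  have H2 := isPullback_fiberMapOver (toOver φ f) f pr (toOver_toBase φ f) y
  have hcl : IsClosedImmersion (CohIII.fiberMapOver (toOver φ f) f pr (toOver_toBase φ f) y) := by
    have H3 : IsPullback (f.fiberι y) (CohIII.fiberMapOver (toOver φ f) f pr (toOver_toBase φ f) y)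
        (toOver φ f) (γ ≫ mapBase n b) := by
      rw [hγ]
      exact H2.flip
    have H4 := IsPullback.of_right' H3 H1
    exact MorphismProperty.of_isPullback (P := @IsClosedImmersion) H4 hψ
  have hpr : IsProper pr := inferInstanceAs (IsProper (CohB1.ProjSpaceOver.toBase n Y))
  obtain ⟨U, hyU, hU⟩ := exists_closedImmersion (toOver φ f) f pr (toOver_toBase φ f) y hcl
  refine ⟨U, hyU, isRelVeryAmplePn_of (f ∣_ U) ((f ⁻¹ᵁ U).ι ≫ φ)
    (((Scheme.Modules.pullbackComp (f ⁻¹ᵁ U).ι φ).app _).symm ≪≫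
      (Scheme.Modules.pullback (f ⁻¹ᵁ U).ι).mapIso e0 ≪≫
      ((Scheme.Modules.restrictFunctorIsoPullback (f ⁻¹ᵁ U).ι).app L).symm) ?_⟩
  have H5 := isPullback_toOver (isPullback_morphismRestrict f U).flip φ _ rfl
  have hle : Set.range (mapBase n U.ι) ⊆ Set.range (pr ⁻¹ᵁ U).ι := by
    rintro _ ⟨z, rfl⟩
    rw [Scheme.Opens.range_ι]
    have h1 : pr (mapBase n U.ι z) = U.ι (CohB1.ProjSpaceOver.toBase n U z) := by
      rw [← Scheme.Hom.comp_apply, ← Scheme.Hom.comp_apply]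
      exact congrArg (fun k : CohB1.ProjSpaceOver n U ⟶ Y => k z) (mapBase_toBase n U.ι)
    change pr (mapBase n U.ι z) ∈ U
    rw [h1]
    exact (CohB1.ProjSpaceOver.toBase n U z).2
  let δ : CohB1.ProjSpaceOver n U ⟶ (pr ⁻¹ᵁ U).toScheme :=
    IsOpenImmersion.lift (pr ⁻¹ᵁ U).ι (mapBase n U.ι) hle
  have hδ : δ ≫ (pr ⁻¹ᵁ U).ι = mapBase n U.ι := IsOpenImmersion.lift_fac _ _ _
  have H6 : IsPullback (f ⁻¹ᵁ U).ι (toOver ((f ⁻¹ᵁ U).ι ≫ φ) (f ∣_ U)) (toOver φ f)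
      (δ ≫ (pr ⁻¹ᵁ U).ι) := by
    rw [hδ]
    exact H5
  have H7 := IsPullback.of_right' H6 (isPullback_morphismRestrict (toOver φ f) (pr ⁻¹ᵁ U)).flip
  have h8 : IsClosedImmersion (toOver ((f ⁻¹ᵁ U).ι ≫ φ) (f ∣_ U)) :=
    MorphismProperty.of_isPullback (P := @IsClosedImmersion) H7 hU
  infer_instance

/-- Restricting twice. -/
theorem restrict_restrict (f : X ⟶ Y) (L : X.Modules) (U : Y.Opens) (V : U.toScheme.Opens)
    (h : RelAmple.IsRelVeryAmplePn (f ∣_ U ∣_ V)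
      (((Scheme.Modules.pullback (f ⁻¹ᵁ U).ι).obj L).restrict ((f ∣_ U) ⁻¹ᵁ V).ι)) :
    RelAmple.IsRelVeryAmplePn (f ∣_ (U.ι ''ᵁ V)) (L.restrict (f ⁻¹ᵁ (U.ι ''ᵁ V)).ι) := by
  have hle : Set.range (U.ι ''ᵁ V).ι ⊆ Set.range (V.ι ≫ U.ι) := by
    rw [Scheme.Opens.range_ι]
    rintro _ ⟨v, hv, rfl⟩
    exact ⟨⟨v, hv⟩, rfl⟩
  let j : (U.ι ''ᵁ V).toScheme ⟶ V.toScheme := IsOpenImmersion.lift (V.ι ≫ U.ι) (U.ι ''ᵁ V).ι hle
  have hj : j ≫ V.ι ≫ U.ι = (U.ι ''ᵁ V).ι := IsOpenImmersion.lift_fac _ _ _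
  have H1 : IsPullback (((f ∣_ U) ⁻¹ᵁ V).ι ≫ (f ⁻¹ᵁ U).ι) (f ∣_ U ∣_ V) f (V.ι ≫ U.ι) :=
    (isPullback_morphismRestrict (f ∣_ U) V).flip.paste_horiz (isPullback_morphismRestrict f U).flip
  have H2 : IsPullback (f ⁻¹ᵁ (U.ι ''ᵁ V)).ι (f ∣_ (U.ι ''ᵁ V)) f (j ≫ (V.ι ≫ U.ι)) := by
    rw [hj]
    exact (isPullback_morphismRestrict f _).flip
  have H3 := IsPullback.of_right' H2 H1
  have h3 := H1.lift_fst (f ⁻¹ᵁ (U.ι ''ᵁ V)).ι ((f ∣_ (U.ι ''ᵁ V)) ≫ j)
    (by rw [H2.w, Category.assoc])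
  refine of_iso (of_isPullback H3 h) ?_
  exact (Scheme.Modules.pullback _).mapIso
      ((Scheme.Modules.restrictFunctorIsoPullback _).app _) ≪≫
    (Scheme.Modules.pullback _).mapIso ((Scheme.Modules.pullbackComp _ _).app L) ≪≫
    (Scheme.Modules.pullbackComp _ _).app L ≪≫ (Scheme.Modules.pullbackCongr h3).app L ≪≫
    ((Scheme.Modules.restrictFunctorIsoPullback _).app L).symm

/-- The tube lemma for closed morphisms. -/
theorem exists_tube (f : X ⟶ Y) (hf : IsClosedMap f) (y : Y) (G : X.Opens)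
    (h : ∀ x : X, f x = y → x ∈ G) : ∃ U : Y.Opens, y ∈ U ∧ f ⁻¹ᵁ U ≤ G := by
  have h1 : IsClosed (f '' ((G : Set X)ᶜ)) := hf _ G.isOpen.isClosed_compl
  refine ⟨⟨(f '' ((G : Set X)ᶜ))ᶜ, h1.isOpen_compl⟩, ?_, ?_⟩
  · rintro ⟨x, hx, hxy⟩
    exact hx (h x hxy)
  · intro x hx
    by_contra hc
    exact hx ⟨x, hc, rfl⟩

theorem pullHom_homOf (g : F ⟶ X) {L : X.Modules} (s : Γ(L, ⊤)) :
    pullHom g (homOf s) = homOf (pullTop g s) := by
  apply hom_ext_sec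
  have h1 := sec_pullHom g (homOf s) ⊤
  rw [sec_homOf, res_refl] at h1
  rw [sec_homOf, res_refl]
  exact h1

theorem genLocus_pullTop (g : F ⟶ X) {L : X.Modules} (hL : PicF.IsInvertible L) (s : Γ(L, ⊤)) :
    CohB1.genLocus ((Scheme.Modules.pullback g).obj L) (homOf (pullTop g s)) =
      g ⁻¹ᵁ CohB1.genLocus L (homOf s) := by
  rw [← pullHom_homOf]
  exact Groth.Agent.Ega1.AmpFam.genLocus_pullHom g hL (homOf s)

theorem exists_point (U : Y.Opens) (y0 : U.toScheme) {b : T ⟶ Y}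
    (c : Spec (Y.residueField (U.ι y0)) ⟶ T) (hc : c ≫ b = Y.fromSpecResidueField (U.ι y0))
    (b0 : T ⟶ U) (hb0 : b0 ≫ U.ι = b) :
    ∃ c0 : Spec (U.toScheme.residueField y0) ⟶ T, c0 ≫ b0 = U.toScheme.fromSpecResidueField y0 := by
  refine ⟨Spec.map (U.ι.residueFieldMap y0) ≫ c, ?_⟩
  rw [← cancel_mono U.ι, Category.assoc, Category.assoc, hb0, hc]
  exact Scheme.Hom.SpecMap_residueFieldMap_fromSpecResidueField U.ι y0

/-- **Spreading out of a closed immersion given by sections.** -/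
theorem near (f : X ⟶ Y) [IsProper f] (y : Y) {b : T ⟶ Y} {g : F ⟶ X} {q : F ⟶ T}
    (H : IsPullback g q f b) (hb : ∀ t : T, b t = y)
    (c : Spec (Y.residueField y) ⟶ T) (hc : c ≫ b = Y.fromSpecResidueField y)
    (L : X.Modules) (hL : PicF.IsInvertible L) {n : ℕ} (s : Fin (n + 1) → Γ(L, ⊤))
    (ψ : F ⟶ CohB1.ProjSpace n (ULift.{u} ℤ)) (hψ : IsClosedImmersion (toOver ψ q))
    (e : (Scheme.Modules.pullback ψ).obj (Twist.twistProjSpace n (ULift.{u} ℤ) 1) ≅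
      (Scheme.Modules.pullback g).obj L)
    (he : ∀ i, e.hom.app ⊤ (pullTop ψ (coordSec n (ULift.{u} ℤ) i)) = pullTop g (s i)) :
    ∃ U : Y.Opens, y ∈ U ∧ RelAmple.IsRelVeryAmplePn (f ∣_ U) (L.restrict (f ⁻¹ᵁ U).ι) := by
  -- the sections generate near the fibre
  have h1 : ⨆ i, g ⁻¹ᵁ CohB1.genLocus L (homOf (s i)) = ⊤ := by
    rw [← iSup_genLocus ψ e]
    exact iSup_congr fun i => by rw [he, genLocus_pullTop g hL]
  have h2 : ∀ x : X, f x = y → x ∈ ⨆ i, CohB1.genLocus L (homOf (s i)) := by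
    intro x hx
    obtain ⟨t⟩ : Nonempty T := ⟨c (IsLocalRing.closedPoint (Y.residueField y))⟩
    obtain ⟨z, hz, -⟩ := Scheme.exists_preimage_of_isPullback H x t (hx.trans (hb t).symm)
    have h3 : z ∈ ⨆ i, g ⁻¹ᵁ CohB1.genLocus L (homOf (s i)) := by
      rw [h1]
      trivial
    rw [← Scheme.Hom.preimage_iSup] at h3
    have h4 : g z ∈ ⨆ i, CohB1.genLocus L (homOf (s i)) := h3
    rwa [show g z = x from hz] at h4
  obtain ⟨U, hyU, hU⟩ := exists_tube f f.isClosedMap y _ h2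
  -- restriction to `U`
  have hbU : Set.range b ⊆ Set.range U.ι := by
    rintro _ ⟨t, rfl⟩
    rw [Scheme.Opens.range_ι, hb t]
    exact hyU
  let b0 : T ⟶ U := IsOpenImmersion.lift U.ι b hbU
  have hb0 : b0 ≫ U.ι = b := IsOpenImmersion.lift_fac _ _ _
  have H0 : IsPullback g q f (b0 ≫ U.ι) := by
    rw [hb0]
    exact H
  have H1 := IsPullback.of_right' H0 (isPullback_morphismRestrict f U).flip
  have hg0 := (isPullback_morphismRestrict f U).flip.lift_fst g (q ≫ b0)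
    (by rw [H0.w, Category.assoc])
  set g0 := (isPullback_morphismRestrict f U).flip.lift g (q ≫ b0) (by rw [H0.w, Category.assoc])
    with hg0def
  let y0 : U.toScheme := ⟨y, hyU⟩
  obtain ⟨c0, hc0⟩ := exists_point U y0 c hc b0 hb0
  have hL0 : PicF.IsInvertible ((Scheme.Modules.pullback (f ⁻¹ᵁ U).ι).obj L) :=
    isInvertible_pullback (f ⁻¹ᵁ U).ι hL
  have hs0 : ⨆ i, CohB1.genLocus ((Scheme.Modules.pullback (f ⁻¹ᵁ U).ι).obj L)
      (homOf (pullTop (f ⁻¹ᵁ U).ι (s i))) = ⊤ := by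
    rw [iSup_congr fun i => genLocus_pullTop (f ⁻¹ᵁ U).ι hL (s i), ← Scheme.Hom.preimage_iSup,
      eq_top_iff]
    intro x _
    exact hU x.2
  have h5 : ∀ i, ((Scheme.Modules.pullbackCongr hg0).symm.hom.app L ≫
      (Scheme.Modules.pullbackComp g0 (f ⁻¹ᵁ U).ι).inv.app L).app ⊤ (pullTop g (s i)) =
      pullTop g0 (pullTop (f ⁻¹ᵁ U).ι (s i)) := by
    intro i
    have h6 : (Scheme.Modules.pullbackCongr hg0).symm = Scheme.Modules.pullbackCongr hg0.symm := by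
      ext
      simp [Scheme.Modules.pullbackCongr]
    rw [h6]
    have h7 := pullTop_congr hg0.symm (s i)
    have h8 : ((Scheme.Modules.pullbackComp g0 (f ⁻¹ᵁ U).ι).inv.app L).app ⊤
        (pullTop (g0 ≫ (f ⁻¹ᵁ U).ι) (s i)) = pullTop g0 (pullTop (f ⁻¹ᵁ U).ι (s i)) :=
      pullSec_comp g0 (f ⁻¹ᵁ U).ι (U := ⊤) (s i)
    rw [← h8, ← h7]
    rfl
  obtain ⟨V, hyV, hV⟩ := near_of_gen (f ∣_ U) y0 H1 c0 hc0 _
    (fun i => pullTop (f ⁻¹ᵁ U).ι (s i)) hs0 ψ hψ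
    (e ≪≫ (Scheme.Modules.pullbackCongr hg0).symm.app L ≪≫
      ((Scheme.Modules.pullbackComp g0 (f ⁻¹ᵁ U).ι).app L).symm) (fun i => by
        rw [← h5, ← he]
        rfl)
  exact ⟨U.ι ''ᵁ V, ⟨y0, hyV, rfl⟩, restrict_restrict f L U V hV⟩

end K471.VaNear
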